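import Mathlib
import Cfsg.Agent.S2352
import Cfsg.Agent.S2353

set_option autoImplicit false

/-!
# Laws modulo the centre (helper39)

`NonLawModCenter w G`: some substitution into the word `w` gives a non-central element of `G`.
This property transfers along injective homomorphisms, and implies that `w` is not a law of
`G ⧸ Z(G)`.
-/

namespace Cfsg.Agent.Lib.Helper39

/-- some substitution into `w` gives a non-central element -/
def NonLawModCenter (w : FreeGroup ℕ) (G : Type*) [Group G] : Prop :=
  ∃ f : ℕ → G, FreeGroup.lift f w ∉ Subgroup.center G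

section

variable {G H : Type*} [Group G] [Group H] {w : FreeGroup ℕ}

theorem lift_comp_hom (φ : G →* H) (f : ℕ → G) (w : FreeGroup ℕ) :
    FreeGroup.lift (fun i => φ (f i)) w = φ (FreeGroup.lift f w) := by
  have hcomp : FreeGroup.lift (fun i => φ (f i)) = φ.comp (FreeGroup.lift f) := by
    ext i
    simp
  rw [hcomp, MonoidHom.comp_apply]

theorem NonLawModCenter.of_injective (φ : H →* G) (hφ : Function.Injective φ)
    (h : NonLawModCenter w H) : NonLawModCenter w G := by
  obtain ⟨f, hf⟩ := h
  refine ⟨fun i => φ (f i), ?_⟩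
  rw [lift_comp_hom]
  intro hc
  apply hf
  rw [Subgroup.mem_center_iff] at hc ⊢
  intro y
  apply hφ
  rw [map_mul, map_mul]
  exact hc (φ y)

theorem NonLawModCenter.exists_quotient (h : NonLawModCenter w G) :
    ∃ f : ℕ → G ⧸ Subgroup.center G, FreeGroup.lift f w ≠ 1 := by
  obtain ⟨f, hf⟩ := h
  refine ⟨fun i => QuotientGroup.mk' (Subgroup.center G) (f i), ?_⟩
  rw [lift_comp_hom]
  intro h1
  exact hf ((QuotientGroup.eq_one_iff _).mp h1)

theorem exists_of_mulEquiv (e : G ≃* H) (h : ∃ f : ℕ → H, FreeGroup.lift f w ≠ 1) :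
    ∃ f : ℕ → G, FreeGroup.lift f w ≠ 1 := by
  obtain ⟨f, hf⟩ := h
  refine ⟨fun i => e.symm (f i), ?_⟩
  have := lift_comp_hom e.symm.toMonoidHom f w
  change FreeGroup.lift (fun i => e.symm (f i)) w = e.symm (FreeGroup.lift f w) at this
  rw [this]
  intro h1
  apply hf
  have h2 := congrArg e h1
  simpa using h2

/-- if `w` is a law in a group isomorphic to `G̃ ⧸ Z(G̃)`, then `G̃` has no non-central value -/
theorem NonLawModCenter.not_law (h : NonLawModCenter w H)
    (e : G ≃* H ⧸ Subgroup.center H) (hlaw : ∀ f : ℕ → G, FreeGroup.lift f w = 1) : False := by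
  obtain ⟨f, hf⟩ := exists_of_mulEquiv e h.exists_quotient
  exact hf (hlaw f)

/-- transfer into the commutator subgroup -/
theorem NonLawModCenter.toCommutator (φ : H →* G) (hφ : Function.Injective φ)
    (hr : ∀ h, φ h ∈ commutator G) (h : NonLawModCenter w H) :
    NonLawModCenter w (commutator G) := by
  refine NonLawModCenter.of_injective (φ.codRestrict (commutator G) hr) ?_ h
  intro a b hab
  apply hφ
  exact congrArg Subtype.val hab

/-- transfer into a subgroup -/
theorem NonLawModCenter.toSubgroup (K : Subgroup G) (φ : H →* G) (hφ : Function.Injective φ)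
    (hr : ∀ h, φ h ∈ K) (h : NonLawModCenter w H) : NonLawModCenter w K := by
  refine NonLawModCenter.of_injective (φ.codRestrict K hr) ?_ h
  intro a b hab
  apply hφ
  exact congrArg Subtype.val hab

end

/-- the alternating groups of large degree -/
theorem nonLaw_alternating {w : FreeGroup ℕ} {n : ℕ} (h4 : 4 ≤ n)
    (h : ∃ f : ℕ → alternatingGroup (Fin n), FreeGroup.lift f w ≠ 1) :
    NonLawModCenter w (alternatingGroup (Fin n)) := by
  obtain ⟨f, hf⟩ := h
  refine ⟨f, ?_⟩
  rw [alternatingGroup.center_eq_bot (by simpa using h4), Subgroup.mem_bot]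
  exact hf

/-- `SL₂` over large fields -/
theorem nonLaw_SL2 {w : FreeGroup ℕ} {F : Type*} [Field F]
    (h : ∃ f : ℕ → Matrix.ProjectiveSpecialLinearGroup (Fin 2) F, FreeGroup.lift f w ≠ 1) :
    NonLawModCenter w (Matrix.SpecialLinearGroup (Fin 2) F) := by
  obtain ⟨f, hf⟩ := h
  choose f' hf' using fun i => QuotientGroup.mk_surjective (f i)
  refine ⟨f', ?_⟩
  intro hc
  apply hf
  have h1 := lift_comp_hom (QuotientGroup.mk' (Subgroup.center
    (Matrix.SpecialLinearGroup (Fin 2) F))) f' w
  have h2 : (fun i => QuotientGroup.mk' (Subgroup.center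
      (Matrix.SpecialLinearGroup (Fin 2) F)) (f' i)) = f := by
    funext i
    exact hf' i
  rw [h2] at h1
  rw [h1]
  exact (QuotientGroup.eq_one_iff _).mpr hc

end Cfsg.Agent.Lib.Helper39

namespace Cfsg.Agent.Lib.Helper39

/-- cardinality bound for a group isomorphic to a quotient of a group embedded in a finite type -/
theorem card_le_of_equiv_quotient {G K M : Type*} [Group G] [Group K] [Finite M]
    (N : Subgroup K) [N.Normal] (e : G ≃* K ⧸ N) (j : K → M) (hj : Function.Injective j) :
    Nat.card G ≤ Nat.card M := by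
  have : Finite K := Finite.of_injective j hj
  calc Nat.card G = Nat.card (K ⧸ N) := Nat.card_congr e.toEquiv
    _ ≤ Nat.card K := Nat.card_le_card_of_surjective _ (QuotientGroup.mk_surjective (s := N))
    _ ≤ Nat.card M := Nat.card_le_card_of_injective j hj

theorem card_matrix_le {ι F : Type*} [Fintype ι] [DecidableEq ι] [Fintype F] (n Q : ℕ)
    (hQ : 1 ≤ Q) (hι : Fintype.card ι ≤ n) (hF : Fintype.card F ≤ Q) :
    Nat.card (Matrix ι ι F) ≤ Q ^ (n * n) := by
  have hc : Nat.card (Matrix ι ι F) = Fintype.card F ^ (Fintype.card ι * Fintype.card ι) := by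
    rw [Nat.card_eq_fintype_card]
    change Fintype.card (ι → ι → F) = _
    rw [Fintype.card_fun, Fintype.card_fun, ← pow_mul]
  rw [hc]
  calc Fintype.card F ^ (Fintype.card ι * Fintype.card ι)
      ≤ Q ^ (Fintype.card ι * Fintype.card ι) := Nat.pow_le_pow_left hF _
    _ ≤ Q ^ (n * n) := Nat.pow_le_pow_right hQ (Nat.mul_le_mul hι hι)

end Cfsg.Agent.Lib.Helper39
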