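import Cfsg.Agent.Lib.Helper39.Law.Basic

set_option autoImplicit false

namespace Cfsg.Agent.Lib.Helper39

open Matrix

section perm

variable {ι : Type*} [Fintype ι] [DecidableEq ι] {F : Type*} [Field F]

variable (ι F) in
/-- permutation matrices, as a monoid homomorphism: `P σ e_j = e_{σ j}` -/
noncomputable def permMatHom : Equiv.Perm ι →* Matrix ι ι F where
  toFun σ := Matrix.of fun i j => if i = σ j then (1 : F) else 0
  map_one' := by
    ext i j
    by_cases h : i = j <;> simp [h, Matrix.one_apply]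
  map_mul' σ τ := by
    ext i k
    simp only [Matrix.mul_apply, Matrix.of_apply, Equiv.Perm.coe_mul, Function.comp_apply]
    rw [Finset.sum_eq_single (τ k)]
    · by_cases h : i = σ (τ k) <;> simp [h]
    · intro j _ hj
      rw [if_neg hj, mul_zero]
    · intro h; exact absurd (Finset.mem_univ _) h

theorem permMatHom_apply (σ : Equiv.Perm ι) (i j : ι) :
    permMatHom ι F σ i j = if i = σ j then 1 else 0 := rfl

theorem permMatHom_mulVec (σ : Equiv.Perm ι) (v : ι → F) (i : ι) :
    (permMatHom ι F σ *ᵥ v) i = v (σ.symm i) := by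
  simp only [Matrix.mulVec, dotProduct, permMatHom_apply]
  rw [Finset.sum_eq_single (σ.symm i)]
  · simp
  · intro j _ hj
    rw [if_neg, zero_mul]
    intro h
    apply hj
    rw [h]; simp
  · intro h; exact absurd (Finset.mem_univ _) h

theorem permMatHom_injective : Function.Injective (permMatHom ι F) := by
  intro σ τ h
  ext j
  have := congrFun (congrFun h (σ j)) j
  simp only [permMatHom_apply, if_true] at this
  by_contra hne
  rw [if_neg hne] at this
  exact one_ne_zero this

theorem permMatHom_transpose (σ : Equiv.Perm ι) :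
    (permMatHom ι F σ)ᵀ = permMatHom ι F σ⁻¹ := by
  ext i j
  simp only [Matrix.transpose_apply, permMatHom_apply]
  congr 1
  rw [eq_iff_iff]
  constructor
  · intro h; rw [h]; simp
  · intro h; rw [h]; simp

theorem det_permMatHom (σ : Equiv.Perm ι) :
    (permMatHom ι F σ).det = ((Equiv.Perm.sign σ : ℤ) : F) := by
  have h : permMatHom ι F σ = (σ⁻¹ : Equiv.Perm ι).permMatrix F := by
    ext i j
    simp only [permMatHom_apply, Equiv.Perm.permMatrix, PEquiv.toMatrix_apply,
      Equiv.toPEquiv_apply, Option.mem_def, Option.some.injEq]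
    congr 1
    rw [eq_iff_iff]
    constructor
    · intro h; rw [h]; simp
    · intro h; rw [← h]; simp
  rw [h, Matrix.det_permutation]
  simp

/-- even permutations as matrices of determinant one -/
noncomputable def altSLHom (n : ℕ) (F : Type*) [Field F] :
    alternatingGroup (Fin n) →* Matrix.SpecialLinearGroup (Fin n) F where
  toFun σ := ⟨permMatHom (Fin n) F σ.1, by
    rw [det_permMatHom, Equiv.Perm.mem_alternatingGroup.mp σ.2]; simp⟩
  map_one' := by
    apply Subtype.ext
    simp
  map_mul' σ τ := by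
    apply Subtype.ext
    show permMatHom (Fin n) F (σ.1 * τ.1) = permMatHom (Fin n) F σ.1 * permMatHom (Fin n) F τ.1
    rw [map_mul]

theorem altSLHom_injective (n : ℕ) (F : Type*) [Field F] : Function.Injective (altSLHom n F) := by
  intro σ τ h
  apply Subtype.ext
  apply permMatHom_injective (F := F)
  exact congrArg Subtype.val h

end perm

section block

variable {α β ι : Type*} [Fintype α] [DecidableEq α] [Fintype β] [DecidableEq β] [Fintype ι]
  [DecidableEq ι] {F : Type*} [Field F]

/-- block diagonal embedding `M ↦ diag(M, 1)` -/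
noncomputable def blockDiagHom (α β F : Type*) [Fintype α] [DecidableEq α] [Fintype β]
    [DecidableEq β] [Field F] : Matrix α α F →* Matrix (α ⊕ β) (α ⊕ β) F where
  toFun M := Matrix.fromBlocks M 0 0 1
  map_one' := Matrix.fromBlocks_one
  map_mul' M N := by
    rw [Matrix.fromBlocks_multiply]
    simp

/-- block diagonal embedding of special linear groups along an equivalence `α ⊕ β ≃ ι` -/
noncomputable def blockSLHom (e : α ⊕ β ≃ ι) (F : Type*) [Field F] :
    Matrix.SpecialLinearGroup α F →* Matrix.SpecialLinearGroup ι F where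
  toFun A := ⟨Matrix.reindexAlgEquiv F F e (blockDiagHom α β F A.1), by
    rw [Matrix.det_reindexAlgEquiv]
    change (Matrix.fromBlocks A.1 0 0 1).det = 1
    rw [Matrix.det_fromBlocks_zero₂₁, A.2, Matrix.det_one, mul_one]⟩
  map_one' := by
    apply Subtype.ext
    simp
  map_mul' A B := by
    apply Subtype.ext
    show Matrix.reindexAlgEquiv F F e (blockDiagHom α β F (A.1 * B.1)) =
      Matrix.reindexAlgEquiv F F e (blockDiagHom α β F A.1) *
        Matrix.reindexAlgEquiv F F e (blockDiagHom α β F B.1)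
    rw [map_mul, map_mul]

theorem blockSLHom_injective (e : α ⊕ β ≃ ι) : Function.Injective (blockSLHom e F) := by
  intro A B h
  apply Subtype.ext
  have h1 := congrArg Subtype.val h
  change Matrix.reindexAlgEquiv F F e (blockDiagHom α β F A.1) =
    Matrix.reindexAlgEquiv F F e (blockDiagHom α β F B.1) at h1
  have h2 := (Matrix.reindexAlgEquiv F F e).injective h1
  change Matrix.fromBlocks A.1 0 0 1 = Matrix.fromBlocks B.1 0 0 1 at h2
  exact (Matrix.fromBlocks_inj.mp h2).1

end block

section stepA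

variable {w : FreeGroup ℕ}

theorem nonLaw_SL_of_alt {n : ℕ} (F : Type*) [Field F] (h4 : 4 ≤ n)
    (h : ∃ f : ℕ → alternatingGroup (Fin n), FreeGroup.lift f w ≠ 1) :
    NonLawModCenter w (Matrix.SpecialLinearGroup (Fin n) F) :=
  (nonLaw_alternating h4 h).of_injective (altSLHom n F) (altSLHom_injective n F)

/-- an equivalence `Fin 2 ⊕ Fin (n - 2) ≃ Fin n` -/
def finTwoSumEquiv {n : ℕ} (h2 : 2 ≤ n) : Fin 2 ⊕ Fin (n - 2) ≃ Fin n :=
  finSumFinEquiv.trans (finCongr (by omega))

theorem nonLaw_SL_of_SL2 {n : ℕ} {F : Type*} [Field F] (h2 : 2 ≤ n)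
    (h : ∃ f : ℕ → Matrix.ProjectiveSpecialLinearGroup (Fin 2) F, FreeGroup.lift f w ≠ 1) :
    NonLawModCenter w (Matrix.SpecialLinearGroup (Fin n) F) :=
  (nonLaw_SL2 h).of_injective (blockSLHom (finTwoSumEquiv h2) F)
    (blockSLHom_injective (finTwoSumEquiv h2))

end stepA

section hyp

variable {α : Type*} [Fintype α] [DecidableEq α] {F : Type*} [Field F]

/-- the hyperbolic embedding `A ↦ diag(A, A⁻ᵀ)` -/
noncomputable def hypHom (α F : Type*) [Fintype α] [DecidableEq α] [Field F] :
    Matrix.SpecialLinearGroup α F →* Matrix (α ⊕ α) (α ⊕ α) F where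
  toFun A := Matrix.fromBlocks A.1 0 0 (A⁻¹).1ᵀ
  map_one' := by
    simp [Matrix.fromBlocks_one]
  map_mul' A B := by
    rw [Matrix.fromBlocks_multiply]
    simp [_root_.mul_inv_rev, Matrix.transpose_mul]

theorem hypHom_apply (A : Matrix.SpecialLinearGroup α F) :
    hypHom α F A = Matrix.fromBlocks A.1 0 0 (A⁻¹).1ᵀ := rfl

theorem hypHom_injective : Function.Injective (hypHom α F) := by
  intro A B h
  apply Subtype.ext
  rw [hypHom_apply, hypHom_apply] at h
  exact (Matrix.fromBlocks_inj.mp h).1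

theorem hypHom_mulVec_inl (A : Matrix.SpecialLinearGroup α F) (v : α ⊕ α → F) (i : α) :
    (hypHom α F A *ᵥ v) (Sum.inl i) = (A.1 *ᵥ (v ∘ Sum.inl)) i := by
  rw [hypHom_apply, Matrix.fromBlocks_mulVec]
  simp

theorem hypHom_mulVec_inr (A : Matrix.SpecialLinearGroup α F) (v : α ⊕ α → F) (i : α) :
    (hypHom α F A *ᵥ v) (Sum.inr i) = ((A⁻¹).1ᵀ *ᵥ (v ∘ Sum.inr)) i := by
  rw [hypHom_apply, Matrix.fromBlocks_mulVec]
  simp

/-- the hyperbolic embedding preserves the hyperbolic pairing -/
theorem hypHom_pair (A : Matrix.SpecialLinearGroup α F) (v : α ⊕ α → F) :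
    ∑ i, (hypHom α F A *ᵥ v) (Sum.inl i) * (hypHom α F A *ᵥ v) (Sum.inr i) =
      ∑ i, v (Sum.inl i) * v (Sum.inr i) := by
  simp only [hypHom_mulVec_inl, hypHom_mulVec_inr]
  change (A.1 *ᵥ (v ∘ Sum.inl)) ⬝ᵥ ((A⁻¹).1ᵀ *ᵥ (v ∘ Sum.inr)) = (v ∘ Sum.inl) ⬝ᵥ (v ∘ Sum.inr)
  rw [Matrix.dotProduct_mulVec, Matrix.vecMul_transpose, Matrix.mulVec_mulVec]
  have : (A⁻¹).1 * A.1 = 1 := by
    rw [← Matrix.SpecialLinearGroup.coe_mul, inv_mul_cancel, Matrix.SpecialLinearGroup.coe_one]
  rw [this, Matrix.one_mulVec]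

end hyp

end Cfsg.Agent.Lib.Helper39
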