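import Cfsg.Agent.Lib.Helper39.Law.Embed
import Cfsg.Agent.S2540
import Cfsg.Prelude.Def_Classical

set_option autoImplicit false

namespace Cfsg.Agent.Lib.Helper39

open Matrix

section symp

variable {α : Type*} [Fintype α] [DecidableEq α] {F : Type*} [Field F] {w : FreeGroup ℕ}

theorem SL_inv_mul_val (A : Matrix.SpecialLinearGroup α F) : (A⁻¹).1 * A.1 = 1 := by
  rw [← Matrix.SpecialLinearGroup.coe_mul, inv_mul_cancel, Matrix.SpecialLinearGroup.coe_one]

theorem hypHom_mem_symplectic (A : Matrix.SpecialLinearGroup α F) :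
    hypHom α F A ∈ Matrix.symplecticGroup α F := by
  rw [hypHom_apply, SymplecticGroup.fromBlocks_mem_iff]
  refine ⟨by simp, by simp, ?_⟩
  rw [← Matrix.transpose_mul, SL_inv_mul_val]
  simp

/-- `SL → Sp`, hyperbolic embedding -/
noncomputable def hypSpHom (α F : Type*) [Fintype α] [DecidableEq α] [Field F] :
    Matrix.SpecialLinearGroup α F →* Matrix.symplecticGroup α F :=
  (hypHom α F).codRestrict (Matrix.symplecticGroup α F) hypHom_mem_symplectic

theorem hypSpHom_injective : Function.Injective (hypSpHom α F) := by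
  intro A B h
  apply hypHom_injective
  exact congrArg Subtype.val h

theorem nonLaw_Sp (h : NonLawModCenter w (Matrix.SpecialLinearGroup α F)) :
    NonLawModCenter w (Matrix.symplecticGroup α F) :=
  h.of_injective (hypSpHom α F) hypSpHom_injective

end symp

section omega

variable {ι : Type} [Fintype ι] [DecidableEq ι] {F : Type*} [Field F] {w : FreeGroup ℕ}

theorem nonLaw_Omega {H : Type*} [Group H] (Q : (ι → F) → F)
    (ψ : H →* Matrix ι ι F) (hinj : Function.Injective ψ)
    (hQ : ∀ A v, Q (ψ A *ᵥ v) = Q v)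
    (hperf : commutator H = ⊤)
    (h : NonLawModCenter w H) : NonLawModCenter w (Cfsg.Omega F Q) := by
  have hmem : ∀ A, ψ.toHomUnits A ∈ Cfsg.isometryGroup F Q := by
    intro A u v
    exact hQ A u
  let φ : H →* Cfsg.isometryGroup F Q := ψ.toHomUnits.codRestrict (Cfsg.isometryGroup F Q) hmem
  have hφ : Function.Injective φ := by
    intro A B hAB
    apply hinj
    have h1 : ((φ A : Matrix.GeneralLinearGroup ι F) : Matrix ι ι F) =
        ((φ B : Matrix.GeneralLinearGroup ι F) : Matrix ι ι F) := by rw [hAB]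
    exact h1
  refine NonLawModCenter.toCommutator φ hφ ?_ h
  intro A
  have hA : A ∈ commutator H := by rw [hperf]; trivial
  have h1 : φ A ∈ Subgroup.map φ (commutator H) := Subgroup.mem_map_of_mem φ hA
  rw [commutator_def, Subgroup.map_commutator] at h1
  rw [commutator_def]
  exact Subgroup.commutator_mono le_top le_top h1

end omega

section families

variable {F : Type*} [Field F] {w : FreeGroup ℕ}

theorem nonLaw_OmegaPlus [Fintype F] {m : ℕ} (h3 : 3 ≤ m)
    (h : NonLawModCenter w (Matrix.SpecialLinearGroup (Fin m) F)) :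
    NonLawModCenter w (Cfsg.Omega F (Cfsg.quadFormPlus m F)) := by
  refine nonLaw_Omega (Cfsg.quadFormPlus m F) (hypHom (Fin m) F) hypHom_injective ?_
    (Cfsg.Agent.S2540.perfect_SL m (by omega) (by omega)) h
  intro A v
  exact hypHom_pair A v

/-- `M ↦ diag(1, M)` -/
noncomputable def blockDiagHom' (α β F : Type*) [Fintype α] [DecidableEq α] [Fintype β]
    [DecidableEq β] [Field F] : Matrix β β F →* Matrix (α ⊕ β) (α ⊕ β) F where
  toFun M := Matrix.fromBlocks 1 0 0 M
  map_one' := Matrix.fromBlocks_one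
  map_mul' M N := by
    rw [Matrix.fromBlocks_multiply]
    simp

theorem blockDiagHom'_injective (α β F : Type*) [Fintype α] [DecidableEq α] [Fintype β]
    [DecidableEq β] [Field F] : Function.Injective (blockDiagHom' α β F) := by
  intro M N h
  exact (Matrix.fromBlocks_inj.mp h).2.2.2

theorem blockDiagHom_injective (α β F : Type*) [Fintype α] [DecidableEq α] [Fintype β]
    [DecidableEq β] [Field F] : Function.Injective (blockDiagHom α β F) := by
  intro M N h
  exact (Matrix.fromBlocks_inj.mp h).1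

theorem nonLaw_OmegaOdd [Fintype F] {m : ℕ} (h3 : 3 ≤ m)
    (h : NonLawModCenter w (Matrix.SpecialLinearGroup (Fin m) F)) :
    NonLawModCenter w (Cfsg.Omega F (Cfsg.quadFormOdd m F)) := by
  refine nonLaw_Omega (Cfsg.quadFormOdd m F)
    ((blockDiagHom' Unit (Fin m ⊕ Fin m) F).comp (hypHom (Fin m) F))
    ((blockDiagHom'_injective _ _ _).comp hypHom_injective) ?_
    (Cfsg.Agent.S2540.perfect_SL m (by omega) (by omega)) h
  intro A v
  have h1 : ((blockDiagHom' Unit (Fin m ⊕ Fin m) F).comp (hypHom (Fin m) F)) A =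
      Matrix.fromBlocks 1 0 0 (hypHom (Fin m) F A) := rfl
  rw [h1, Matrix.fromBlocks_mulVec]
  unfold Cfsg.quadFormOdd
  simp only [Sum.elim_inl, Sum.elim_inr, Matrix.one_mulVec, Matrix.zero_mulVec, add_zero, zero_add,
    Function.comp_apply]
  congr 1
  exact hypHom_pair A (v ∘ Sum.inr)

theorem nonLaw_OmegaMinus [Fintype F] {m : ℕ} (a b : F) (h3 : 3 ≤ m)
    (h : NonLawModCenter w (Matrix.SpecialLinearGroup (Fin m) F)) :
    NonLawModCenter w (Cfsg.Omega F (Cfsg.quadFormMinus m F a b)) := by
  refine nonLaw_Omega (Cfsg.quadFormMinus m F a b)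
    ((blockDiagHom (Fin m ⊕ Fin m) (Fin 2) F).comp (hypHom (Fin m) F))
    ((blockDiagHom_injective _ _ _).comp hypHom_injective) ?_
    (Cfsg.Agent.S2540.perfect_SL m (by omega) (by omega)) h
  intro A v
  have h1 : ((blockDiagHom (Fin m ⊕ Fin m) (Fin 2) F).comp (hypHom (Fin m) F)) A =
      Matrix.fromBlocks (hypHom (Fin m) F A) 0 0 1 := rfl
  rw [h1, Matrix.fromBlocks_mulVec]
  unfold Cfsg.quadFormMinus
  simp only [Sum.elim_inl, Sum.elim_inr, Matrix.one_mulVec, Matrix.zero_mulVec, add_zero, zero_add,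
    Function.comp_apply]
  congr 1
  exact hypHom_pair A (v ∘ Sum.inl)

end families

end Cfsg.Agent.Lib.Helper39
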