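import Cfsg.Agent.Lib.Helper39.Law.Unitary

set_option autoImplicit false

namespace Cfsg.Agent.Lib.Helper39

open Matrix

section frob

variable {F : Type*} [Field F] [Fintype F] {q : ℕ}

/-- The Frobenius-type involution of a field with `q ^ 2` elements is not the identity. -/
theorem frobSq_ne_id (hF : Fintype.card F = q ^ 2) (σ : F →+* F)
    (hσq : ∀ x, σ x = x ^ q) : σ ≠ RingHom.id F := by
  classical
  intro h
  have hq : 2 ≤ q := Cfsg.Agent.Lib.Helper13.two_le_of_card_eq_sq hF
  have hall : ∀ x : F, x ^ q = x := fun x => by rw [← hσq, h]; rfl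
  have hP : (Polynomial.X ^ q - Polynomial.X : Polynomial F) ≠ 0 :=
    FiniteField.X_pow_card_sub_X_ne_zero F (by omega)
  have hdeg := FiniteField.X_pow_card_sub_X_natDegree_eq F (p := q) (by omega)
  have hsub : (Finset.univ : Finset F) ⊆
      (Polynomial.X ^ q - Polynomial.X : Polynomial F).roots.toFinset := by
    intro x _
    rw [Multiset.mem_toFinset, Polynomial.mem_roots hP]
    simp [hall x]
  have h1 := Finset.card_le_card hsub
  have h2 := Multiset.toFinset_card_le (Polynomial.X ^ q - Polynomial.X : Polynomial F).roots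
  have h3 := Polynomial.card_roots' (Polynomial.X ^ q - Polynomial.X : Polynomial F)
  rw [Finset.card_univ, hF] at h1
  nlinarith

/-- a hyperbolic frame for the standard hermitian form on `F²` -/
theorem exists_hyperbolic_frame (hF : Fintype.card F = q ^ 2) (σ : F →+* F)
    (hσq : ∀ x, σ x = x ^ q) (hσ2 : ∀ x, σ (σ x) = x) :
    ∃ (T Ti : Matrix (Fin 2) (Fin 2) F) (c : F), T * Ti = 1 ∧ Ti * T = 1 ∧
      Tᵀ * T.map σ = c • !![0, 1; -1, 0] := by
  have hne := frobSq_ne_id hF σ hσq
  obtain ⟨lam, hlam⟩ := Cfsg.Agent.Lib.Helper13.exists_norm_eq σ hne hσ2 (-1) (by simp) (by simp)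
  obtain ⟨l, hl1, hlne⟩ := Cfsg.Agent.Lib.Helper13.exists_U1_ne_one hF
  have hζ : (l : F) * σ l = 1 := by rw [hσq, ← pow_succ']; exact hl1
  have hζ1 : (l : F) - 1 ≠ 0 := by
    intro h
    apply hlne
    apply Units.ext
    rw [Units.val_one]
    exact sub_eq_zero.mp h
  obtain ⟨ω, hω⟩ : ∃ ω, σ ω ≠ ω := by
    by_contra hcon
    push Not at hcon
    exact hne (RingHom.ext hcon)
  have hc : ω - σ ω ≠ 0 := by
    intro h
    exact hω (sub_eq_zero.mp h).symm
  have hσc : σ (ω - σ ω) = -(ω - σ ω) := by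
    rw [map_sub, hσ2]; ring
  have hlam0 : lam ≠ 0 := by
    rintro rfl
    simp at hlam
  obtain ⟨β, hβ⟩ : ∃ β : F, β * ((l : F) - 1) = ω - σ ω := ⟨(ω - σ ω) / ((l : F) - 1), by
    field_simp⟩
  have hσβ : σ β * (σ l - 1) = -(ω - σ ω) := by
    rw [← hσc, ← hβ, map_mul, map_sub, map_one]
  set T : Matrix (Fin 2) (Fin 2) F := !![1, β; lam, β * lam * l] with hT
  have hdet : T.det = lam * (ω - σ ω) := by
    rw [hT, Matrix.det_fin_two_of, ← hβ]; ring
  have hdet0 : IsUnit T.det := by
    rw [hdet]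
    exact isUnit_iff_ne_zero.mpr (mul_ne_zero hlam0 hc)
  refine ⟨T, T⁻¹, ω - σ ω, Matrix.mul_nonsing_inv T hdet0, Matrix.nonsing_inv_mul T hdet0, ?_⟩
  ext i j
  fin_cases i <;> fin_cases j
  · simp [hT, Matrix.mul_apply, Fin.sum_univ_two]
    linear_combination hlam
  · simp [hT, Matrix.mul_apply, Fin.sum_univ_two]
    linear_combination (σ β * σ l) * hlam - hσβ
  · simp [hT, Matrix.mul_apply, Fin.sum_univ_two]
    linear_combination (β * l) * hlam - hβ
  · simp [hT, Matrix.mul_apply, Fin.sum_univ_two]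
    linear_combination (β * σ β * l * σ l) * hlam - (β * σ β) * hζ

end frob

section frob2

variable {F : Type*} [Field F] 

theorem SL2_preserves_J (A : Matrix (Fin 2) (Fin 2) F) (hA : A.det = 1) (c : F) :
    Aᵀ * (c • !![0, 1; -1, 0]) * A = c • !![0, 1; -1, 0] := by
  rw [Matrix.det_fin_two] at hA
  ext i j
  fin_cases i <;> fin_cases j
  · simp [Matrix.mul_apply, Fin.sum_univ_two]
    ring
  · simp [Matrix.mul_apply, Fin.sum_univ_two]
    linear_combination c * hA
  · simp [Matrix.mul_apply, Fin.sum_univ_two]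
    linear_combination (-c) * hA
  · simp [Matrix.mul_apply, Fin.sum_univ_two]
    ring

variable [Fintype F] {q : ℕ}

theorem card_fixedField_ge (hF : Fintype.card F = q ^ 2) (σ : F →+* F)
    (hσq : ∀ x, σ x = x ^ q) : q - 1 ≤ Nat.card (σ.eqLocusField (RingHom.id F)) := by
  have hq : 2 ≤ q := Cfsg.Agent.Lib.Helper13.two_le_of_card_eq_sq hF
  let j : (powMonoidHom (q - 1) : Fˣ →* Fˣ).ker → σ.eqLocusField (RingHom.id F) := fun x =>
    ⟨((x.1 : Fˣ) : F), by
      rw [RingHom.mem_eqLocusField, hσq, RingHom.id_apply]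
      have hx := x.2
      rw [MonoidHom.mem_ker, powMonoidHom_apply] at hx
      have hx' : ((x.1 : Fˣ) : F) ^ (q - 1) = 1 := by
        rw [← Units.val_pow_eq_pow_val, hx, Units.val_one]
      calc ((x.1 : Fˣ) : F) ^ q = ((x.1 : Fˣ) : F) ^ (q - 1) * ((x.1 : Fˣ) : F) := by
            rw [← pow_succ, Nat.sub_add_cancel (by omega)]
        _ = ((x.1 : Fˣ) : F) := by rw [hx', one_mul]⟩
  have hj : Function.Injective j := by
    intro a b h
    apply Subtype.ext
    apply Units.ext
    exact congrArg Subtype.val h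
  have h1 := Nat.card_le_card_of_injective j hj
  rw [IsCyclic.card_powMonoidHom_ker, Nat.card_units, Nat.card_eq_fintype_card, hF] at h1
  have h2 : (q ^ 2 - 1).gcd (q - 1) = q - 1 := by
    apply Nat.gcd_eq_right
    refine ⟨q + 1, ?_⟩
    obtain ⟨t, rfl⟩ : ∃ t, q = t + 1 := ⟨q - 1, by omega⟩
    have : (t + 1) ^ 2 = (t + 1 - 1) * (t + 1 + 1) + 1 := by
      simp only [Nat.add_sub_cancel]; ring
    omega
  rw [h2] at h1
  exact h1

end frob2

section su

variable {F : Type*} [Field F] {w : FreeGroup ℕ} {n q : ℕ}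

theorem mem_SU_of_isHermUnitary (σ : F →+* F) (hσq : ∀ x, σ x = x ^ q)
    (g : Matrix.SpecialLinearGroup (Fin n) F) (h : IsHermUnitary σ g.1) : g ∈ Cfsg.SU n F q := by
  intro u v
  exact h.hermForm_eq hσq u v

theorem nonLaw_SU_of_alt [Fintype F] (hF : Fintype.card F = q ^ 2)
    (h : NonLawModCenter w (alternatingGroup (Fin n))) : NonLawModCenter w (Cfsg.SU n F q) := by
  obtain ⟨σ, hσq, -⟩ := Cfsg.Agent.Lib.Helper13.exists_frob hF
  refine NonLawModCenter.toSubgroup (Cfsg.SU n F q) (altSLHom n F) (altSLHom_injective n F) ?_ h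
  intro τ
  exact mem_SU_of_isHermUnitary σ hσq _ (isHermUnitary_permMatHom τ.1)

theorem SL_map_injective {ι R S : Type*} [Fintype ι] [DecidableEq ι] [CommRing R] [CommRing S]
    (f : R →+* S) (hf : Function.Injective f) :
    Function.Injective (Matrix.SpecialLinearGroup.map (n := ι) f) := by
  intro A B h
  apply Subtype.ext
  have h1 := congrArg Subtype.val h
  ext i j
  apply hf
  have h2 := congrFun (congrFun h1 i) j
  exact h2

theorem nonLaw_SU_of_SL2 [Fintype F] (hF : Fintype.card F = q ^ 2) (hn : 2 ≤ n) (σ : F →+* F)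
    (hσq : ∀ x, σ x = x ^ q) (hσ2 : ∀ x, σ (σ x) = x)
    (h : NonLawModCenter w (Matrix.SpecialLinearGroup (Fin 2) (σ.eqLocusField (RingHom.id F)))) :
    NonLawModCenter w (Cfsg.SU n F q) := by
  obtain ⟨T, Ti, c, h1, h2, hP⟩ := exists_hyperbolic_frame hF σ hσq hσ2
  let φ0 : Matrix.SpecialLinearGroup (Fin 2) (σ.eqLocusField (RingHom.id F)) →*
      Matrix.SpecialLinearGroup (Fin 2) F :=
    Matrix.SpecialLinearGroup.map (σ.eqLocusField (RingHom.id F)).subtype
  have hφ0 : Function.Injective φ0 := SL_map_injective _ Subtype.val_injective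
  let φ := (blockSLHom (finTwoSumEquiv hn) F).comp ((conjSLHom T Ti h1 h2).comp φ0)
  have hφ : Function.Injective φ :=
    (blockSLHom_injective (finTwoSumEquiv hn)).comp ((conjSLHom_injective T Ti h1 h2).comp hφ0)
  refine NonLawModCenter.toSubgroup (Cfsg.SU n F q) φ hφ ?_ h
  intro A
  apply mem_SU_of_isHermUnitary σ hσq
  change IsHermUnitary σ (Matrix.reindexAlgEquiv F F (finTwoSumEquiv hn)
    (Matrix.fromBlocks (T * (φ0 A).1 * Ti) 0 0 1))
  apply IsHermUnitary.reindex
  apply IsHermUnitary.fromBlocks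
  apply isHermUnitary_conj h1
  · ext i j
    rw [Matrix.map_apply]
    exact (A.1 i j).2
  · rw [hP]
    exact SL2_preserves_J _ (φ0 A).2 c

end su

end Cfsg.Agent.Lib.Helper39
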