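import Cfsg.Agent.Lib.Helper39.Law.Embed
import Cfsg.Agent.Lib.Helper13.NormSurj
import Cfsg.Agent.Lib.Helper13.GU
import Cfsg.Prelude.Def_Classical

set_option autoImplicit false

namespace Cfsg.Agent.Lib.Helper39

open Matrix

section herm

variable {ι κ : Type*} [Fintype ι] [DecidableEq ι] [Fintype κ] [DecidableEq κ]
  {F : Type*} [Field F] (σ : F →+* F)

/-- `Mᵀ σ(M) = 1`: the matrix `M` preserves the standard `σ`-hermitian form -/
def IsHermUnitary (M : Matrix ι ι F) : Prop := Mᵀ * M.map σ = 1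

variable {σ}

theorem IsHermUnitary.fromBlocks {M : Matrix ι ι F} (h : IsHermUnitary σ M) :
    IsHermUnitary σ (Matrix.fromBlocks M 0 0 (1 : Matrix κ κ F)) := by
  unfold IsHermUnitary at h ⊢
  rw [Matrix.fromBlocks_transpose, Matrix.fromBlocks_map, Matrix.fromBlocks_multiply]
  simp [h, Matrix.fromBlocks_one]

theorem IsHermUnitary.reindex (e : ι ≃ κ) {M : Matrix ι ι F} (h : IsHermUnitary σ M) :
    IsHermUnitary σ (Matrix.reindexAlgEquiv F F e M) := by
  unfold IsHermUnitary at h ⊢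
  rw [Matrix.coe_reindexAlgEquiv, Matrix.reindex_apply, Matrix.transpose_submatrix,
    ← Matrix.submatrix_map, Matrix.submatrix_mul_equiv, h, Matrix.submatrix_one_equiv]

theorem IsHermUnitary.hermForm_eq {n q : ℕ} (hσ : ∀ x, σ x = x ^ q)
    {M : Matrix (Fin n) (Fin n) F} (h : IsHermUnitary σ M) (u v : Fin n → F) :
    Cfsg.hermForm n F q (M *ᵥ u) (M *ᵥ v) = Cfsg.hermForm n F q u v := by
  have key : ∀ a b : Fin n → F, Cfsg.hermForm n F q a b = a ⬝ᵥ (σ ∘ b) := by
    intro a b
    unfold Cfsg.hermForm dotProduct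
    apply Finset.sum_congr rfl
    intro i _
    rw [Function.comp_apply, hσ]
  rw [key, key]
  have h1 : σ ∘ (M *ᵥ v) = M.map σ *ᵥ (σ ∘ v) := by
    funext i
    rw [Function.comp_apply, RingHom.map_mulVec]
  rw [h1, Matrix.dotProduct_mulVec, ← Matrix.vecMul_transpose, Matrix.vecMul_vecMul]
  unfold IsHermUnitary at h
  rw [h, Matrix.vecMul_one]

theorem isHermUnitary_permMatHom (τ : Equiv.Perm ι) : IsHermUnitary σ (permMatHom ι F τ) := by
  unfold IsHermUnitary
  have h1 : (permMatHom ι F τ).map σ = permMatHom ι F τ := by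
    ext i j
    rw [Matrix.map_apply, permMatHom_apply]
    split_ifs <;> simp
  rw [h1, permMatHom_transpose, ← map_mul, inv_mul_cancel, map_one]

/-- conjugating a `σ`-fixed matrix preserving `P = Tᵀ σ(T)` by `T` gives a unitary matrix -/
theorem isHermUnitary_conj {T Ti A : Matrix ι ι F} (hTTi : T * Ti = 1)
    (hA : A.map σ = A) (hAP : Aᵀ * (Tᵀ * T.map σ) * A = Tᵀ * T.map σ) :
    IsHermUnitary σ (T * A * Ti) := by
  unfold IsHermUnitary
  rw [Matrix.transpose_mul, Matrix.transpose_mul, Matrix.map_mul, Matrix.map_mul, hA]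
  calc Tiᵀ * (Aᵀ * Tᵀ) * (T.map σ * A * Ti.map σ)
      = Tiᵀ * (Aᵀ * (Tᵀ * T.map σ) * A) * Ti.map σ := by simp only [Matrix.mul_assoc]
    _ = Tiᵀ * (Tᵀ * T.map σ) * Ti.map σ := by rw [hAP]
    _ = (T * Ti)ᵀ * (T * Ti).map σ := by
        rw [Matrix.transpose_mul, Matrix.map_mul]; simp only [Matrix.mul_assoc]
    _ = 1 := by rw [hTTi]; simp

end herm

section conj

variable {ι : Type*} [Fintype ι] [DecidableEq ι] {F : Type*} [Field F]

/-- conjugation by an invertible matrix, on the special linear group -/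
noncomputable def conjSLHom (T Ti : Matrix ι ι F) (h1 : T * Ti = 1) (h2 : Ti * T = 1) :
    Matrix.SpecialLinearGroup ι F →* Matrix.SpecialLinearGroup ι F where
  toFun A := ⟨T * A.1 * Ti, by
    rw [Matrix.det_mul, Matrix.det_mul, A.2, mul_one, ← Matrix.det_mul, h1, Matrix.det_one]⟩
  map_one' := by
    apply Subtype.ext
    simp [h1]
  map_mul' A B := by
    apply Subtype.ext
    show T * (A.1 * B.1) * Ti = (T * A.1 * Ti) * (T * B.1 * Ti)
    calc T * (A.1 * B.1) * Ti = T * A.1 * (1 * (B.1 * Ti)) := by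
          rw [Matrix.one_mul]; simp only [Matrix.mul_assoc]
      _ = (T * A.1 * Ti) * (T * B.1 * Ti) := by rw [← h2]; simp only [Matrix.mul_assoc]

theorem conjSLHom_val (T Ti : Matrix ι ι F) (h1 : T * Ti = 1) (h2 : Ti * T = 1)
    (A : Matrix.SpecialLinearGroup ι F) : (conjSLHom T Ti h1 h2 A).1 = T * A.1 * Ti := rfl

theorem conjSLHom_injective (T Ti : Matrix ι ι F) (h1 : T * Ti = 1) (h2 : Ti * T = 1) :
    Function.Injective (conjSLHom T Ti h1 h2) := by
  intro A B h
  apply Subtype.ext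
  have h3 := congrArg Subtype.val h
  rw [conjSLHom_val, conjSLHom_val] at h3
  calc A.1 = Ti * (T * A.1 * Ti) * T := by
        rw [show Ti * (T * A.1 * Ti) * T = (Ti * T) * A.1 * (Ti * T) by
          simp only [Matrix.mul_assoc], h2]; simp
    _ = Ti * (T * B.1 * Ti) * T := by rw [h3]
    _ = B.1 := by
        rw [show Ti * (T * B.1 * Ti) * T = (Ti * T) * B.1 * (Ti * T) by
          simp only [Matrix.mul_assoc], h2]; simp

end conj

end Cfsg.Agent.Lib.Helper39
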